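import Cfsg.Agent.Helper19.HeK2.Tab

set_option autoImplicit false
set_option linter.all false
set_option maxRecDepth 1000000
set_option maxHeartbeats 0

namespace Cfsg.Agent.Helper19.HeK2

theorem okR56 : OKR (56 * 2000) 2000 := by decide +kernel
theorem okR57 : OKR (57 * 2000) 2000 := by decide +kernel
theorem okR58 : OKR (58 * 2000) 2000 := by decide +kernel
theorem okR59 : OKR (59 * 2000) 2000 := by decide +kernel

end Cfsg.Agent.Helper19.HeK2
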