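import Cfsg.Agent.Helper19.HeK2.Tab

set_option autoImplicit false
set_option linter.all false
set_option maxRecDepth 1000000
set_option maxHeartbeats 0

namespace Cfsg.Agent.Helper19.HeK2

theorem okR60 : OKR (60 * 2000) 2000 := by decide +kernel
theorem okR61 : OKR (61 * 2000) 2000 := by decide +kernel
theorem okR62 : OKR (62 * 2000) 2000 := by decide +kernel
theorem okR63 : OKR (63 * 2000) 2000 := by decide +kernel

end Cfsg.Agent.Helper19.HeK2
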