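import Cfsg.Agent.Helper19.HeK2.Tab

set_option autoImplicit false
set_option linter.all false
set_option maxRecDepth 1000000
set_option maxHeartbeats 0

namespace Cfsg.Agent.Helper19.HeK2

theorem okR72 : OKR (72 * 2000) 2000 := by decide +kernel
theorem okR73 : OKR (73 * 2000) 2000 := by decide +kernel
theorem okR74 : OKR (74 * 2000) 2000 := by decide +kernel
theorem okR75 : OKR (75 * 2000) 2000 := by decide +kernel

end Cfsg.Agent.Helper19.HeK2
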