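import Cfsg.Agent.Helper19.HeK2.Tab

set_option autoImplicit false
set_option linter.all false
set_option maxRecDepth 1000000
set_option maxHeartbeats 0

namespace Cfsg.Agent.Helper19.HeK2

theorem okR128 : OKR (128 * 2000) 2000 := by decide +kernel
theorem okR129 : OKR (129 * 2000) 2000 := by decide +kernel
theorem okR130 : OKR (130 * 2000) 2000 := by decide +kernel
theorem okR131 : OKR (131 * 2000) 2000 := by decide +kernel

end Cfsg.Agent.Helper19.HeK2
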