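import Mathlib
import Cfsg.Agent.Helper19.TCR.Static
import Cfsg.Agent.Helper19.HeK2.Chk0
import Cfsg.Agent.Helper19.HeK2.Chk1
import Cfsg.Agent.Helper19.HeK2.Chk2
import Cfsg.Agent.Helper19.HeK2.Chk3
import Cfsg.Agent.Helper19.HeK2.Chk4
import Cfsg.Agent.Helper19.HeK2.Chk5
import Cfsg.Agent.Helper19.HeK2.Chk6
import Cfsg.Agent.Helper19.HeK2.Chk7
import Cfsg.Agent.Helper19.HeK2.Chk8
import Cfsg.Agent.Helper19.HeK2.Chk9
import Cfsg.Agent.Helper19.HeK2.Chk10
import Cfsg.Agent.Helper19.HeK2.Chk11
import Cfsg.Agent.Helper19.HeK2.Chk12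
import Cfsg.Agent.Helper19.HeK2.Chk13
import Cfsg.Agent.Helper19.HeK2.Chk14
import Cfsg.Agent.Helper19.HeK2.Chk15
import Cfsg.Agent.Helper19.HeK2.Chk16
import Cfsg.Agent.Helper19.HeK2.Chk17
import Cfsg.Agent.Helper19.HeK2.Chk18
import Cfsg.Agent.Helper19.HeK2.Chk19
import Cfsg.Agent.Helper19.HeK2.Chk20
import Cfsg.Agent.Helper19.HeK2.Chk21
import Cfsg.Agent.Helper19.HeK2.Chk22
import Cfsg.Agent.Helper19.HeK2.Chk23
import Cfsg.Agent.Helper19.HeK2.Chk24
import Cfsg.Agent.Helper19.HeK2.Chk25
import Cfsg.Agent.Helper19.HeK2.Chk26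
import Cfsg.Agent.Helper19.HeK2.Chk27
import Cfsg.Agent.Helper19.HeK2.Chk28
import Cfsg.Agent.Helper19.HeK2.Chk29
import Cfsg.Agent.Helper19.HeK2.Chk30
import Cfsg.Agent.Helper19.HeK2.Chk31
import Cfsg.Agent.Helper19.HeK2.Chk32
import Cfsg.Agent.Helper19.HeK2.Chk33
import Cfsg.Agent.Helper19.HeK2.ChkT

set_option autoImplicit false
set_option linter.all false
set_option maxRecDepth 1000000
set_option maxHeartbeats 0

namespace Cfsg.Agent.Helper19.HeK2

open Cfsg.Agent.Helper19.TCS

theorem okR_all : ∀ p, p < 134 → OKR (p * 2000) 2000 := by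
  intro p hp
  interval_cases p
  · exact okR0
  · exact okR1
  · exact okR2
  · exact okR3
  · exact okR4
  · exact okR5
  · exact okR6
  · exact okR7
  · exact okR8
  · exact okR9
  · exact okR10
  · exact okR11
  · exact okR12
  · exact okR13
  · exact okR14
  · exact okR15
  · exact okR16
  · exact okR17
  · exact okR18
  · exact okR19
  · exact okR20
  · exact okR21
  · exact okR22
  · exact okR23
  · exact okR24
  · exact okR25
  · exact okR26
  · exact okR27
  · exact okR28
  · exact okR29
  · exact okR30
  · exact okR31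
  · exact okR32
  · exact okR33
  · exact okR34
  · exact okR35
  · exact okR36
  · exact okR37
  · exact okR38
  · exact okR39
  · exact okR40
  · exact okR41
  · exact okR42
  · exact okR43
  · exact okR44
  · exact okR45
  · exact okR46
  · exact okR47
  · exact okR48
  · exact okR49
  · exact okR50
  · exact okR51
  · exact okR52
  · exact okR53
  · exact okR54
  · exact okR55
  · exact okR56
  · exact okR57
  · exact okR58
  · exact okR59
  · exact okR60
  · exact okR61
  · exact okR62
  · exact okR63
  · exact okR64
  · exact okR65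
  · exact okR66
  · exact okR67
  · exact okR68
  · exact okR69
  · exact okR70
  · exact okR71
  · exact okR72
  · exact okR73
  · exact okR74
  · exact okR75
  · exact okR76
  · exact okR77
  · exact okR78
  · exact okR79
  · exact okR80
  · exact okR81
  · exact okR82
  · exact okR83
  · exact okR84
  · exact okR85
  · exact okR86
  · exact okR87
  · exact okR88
  · exact okR89
  · exact okR90
  · exact okR91
  · exact okR92
  · exact okR93
  · exact okR94
  · exact okR95
  · exact okR96
  · exact okR97
  · exact okR98
  · exact okR99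
  · exact okR100
  · exact okR101
  · exact okR102
  · exact okR103
  · exact okR104
  · exact okR105
  · exact okR106
  · exact okR107
  · exact okR108
  · exact okR109
  · exact okR110
  · exact okR111
  · exact okR112
  · exact okR113
  · exact okR114
  · exact okR115
  · exact okR116
  · exact okR117
  · exact okR118
  · exact okR119
  · exact okR120
  · exact okR121
  · exact okR122
  · exact okR123
  · exact okR124
  · exact okR125
  · exact okR126
  · exact okR127
  · exact okR128
  · exact okR129
  · exact okR130
  · exact okR131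
  · exact okR132
  · exact okR133

theorem okT_all : ∀ p, p < 14 → OKT (p * 20000) 20000 := by
  intro p hp
  interval_cases p
  · exact okT0
  · exact okT1
  · exact okT2
  · exact okT3
  · exact okT4
  · exact okT5
  · exact okT6
  · exact okT7
  · exact okT8
  · exact okT9
  · exact okT10
  · exact okT11
  · exact okT12
  · exact okT13

theorem okAll : ∀ i l, i < 266560 → l < 7 → OKE i l := by
  intro i l hi hl
  have hp : i / 2000 < 134 := by omega
  have h1 : i / 2000 * 2000 ≤ i := Nat.div_mul_le_self i 2000
  have h2 : i < i / 2000 * 2000 + 2000 := by omega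
  exact okRows_spec (i / 2000 * 2000) 2000 (okR_all (i / 2000) hp) i h1 h2 hi l hl

theorem treeAll : ∀ j, 0 < j → j < 266560 → parF j < j := by
  intro j h0 hj
  have hp : j / 20000 < 14 := by omega
  have h1 : j / 20000 * 20000 ≤ j := Nat.div_mul_le_self j 20000
  have h2 : j < j / 20000 * 20000 + 20000 := by omega
  exact okTree_spec (j / 20000 * 20000) 20000 (okT_all (j / 20000) hp) j h1 h2 h0 hj

theorem rotsF_ok : (List.range 79).all (fun r => rotL.contains (rotsF r)) = true := by decide +kernel

theorem rotL_ok : rotL.all (rotOK 7 rels) = true := by decide +kernel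

theorem subL_ok : subL.all (subOK 7 subs) = true := by decide +kernel

theorem subsF_ok : ∀ s, (subsF s).2.1 < 7 → subsF s ∈ subL := by
  intro s hs
  unfold subsF at hs ⊢
  by_cases h : s < subL.length
  · rw [List.getD_eq_getElem _ _ h]; exact List.getElem_mem h
  · rw [List.getD_eq_default _ _ (not_lt.mp h)] at hs
    simp at hs

theorem invF_ok : ∀ l, l < 7 → invF l = l := by
  intro l hl
  interval_cases l <;> rfl

/-- the table is closed, for any group with generators `gc` satisfying the relators. -/
theorem closed {G : Type*} [Group G] (H : Subgroup G) (gc : ℕ → G)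
    (hinv : ∀ l, l < 7 → gc (invF l) = (gc l)⁻¹)
    (hrels : ∀ w ∈ rels, prodw gc w = 1) (hsubs : ∀ w ∈ subs, prodw gc w ∈ H) :
    Sem 266560 7 invF 79 rotsF subsF H gc ∧ Closed 266560 7 524288 ent parF pletF H gc := by
  have S : Sem 266560 7 invF 79 rotsF subsF H gc :=
    sem_of_data rels subs rotL subL
      (by intro l hl; interval_cases l <;> decide) hinv rotsF_ok rotL_ok hrels subsF_ok subL_ok hsubs
      (by norm_num)
  exact ⟨S, closed_of_ok S treeAll okAll⟩

end Cfsg.Agent.Helper19.HeK2
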